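import Mathlib.RingTheory.Flat.Basic
import Mathlib.RingTheory.Noetherian.Basic
import Mathlib.RingTheory.TensorProduct.Quotient
import Mathlib.AlgebraicGeometry.Noetherian
import Mathlib.AlgebraicGeometry.Morphisms.Flat
import Mathlib.AlgebraicGeometry.Morphisms.Affine

/-!
# The source of a flat affine monomorphism to a locally Noetherian scheme is locally Noetherian
-/

set_option autoImplicit false
set_option backward.isDefEq.respectTransparency false
set_option linter.style.haveILetI false

universe u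

open CategoryTheory CategoryTheory.Limits AlgebraicGeometry TensorProduct

namespace Groth.Agent.KFib28

/-- A flat epimorphic extension of a Noetherian ring is Noetherian. -/
theorem isNoetherianRing_of_flat_epi {B C : CommRingCat.{u}} (φ : B ⟶ C) [Epi φ] (hφ : φ.hom.Flat)
    [IsNoetherianRing B] : IsNoetherianRing C := by
  algebraize [φ.hom]
  have hepi : ∀ x : C, x ⊗ₜ[B] (1 : C) = (1 : C) ⊗ₜ[B] x := fun x => by
    have h : φ ≫ CommRingCat.ofHom (R := C) (S := ↥C ⊗[↥B] ↥C) Algebra.TensorProduct.includeLeftRingHom =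
        φ ≫ CommRingCat.ofHom (R := C) (S := ↥C ⊗[↥B] ↥C) Algebra.TensorProduct.includeRight.toRingHom := by
      ext b
      show (algebraMap B C b) ⊗ₜ[B] (1 : C) = (1 : C) ⊗ₜ[B] algebraMap B C b
      rw [Algebra.algebraMap_eq_smul_one, TensorProduct.smul_tmul]
    exact congrArg (fun t => t.hom x) ((cancel_epi φ).1 h)
  rw [isNoetherianRing_iff_ideal_fg]
  intro I
  have hI : I = (I.comap (algebraMap B C)).map (algebraMap B C) := by
    refine le_antisymm (fun x hx => ?_) Ideal.map_comap_le
    let J := I.comap (algebraMap B C)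
    let g : (B ⧸ J) →ₗ[B] C ⧸ I :=
      Submodule.mapQ J (I.restrictScalars B) (Algebra.linearMap B C) (fun b hb => hb)
    have hg : Function.Injective g := by
      rw [← LinearMap.ker_eq_bot, eq_bot_iff]
      intro y hy
      obtain ⟨b, rfl⟩ := Submodule.Quotient.mk_surjective J y
      exact (Submodule.Quotient.mk_eq_zero J).2 ((Submodule.Quotient.mk_eq_zero (I.restrictScalars B)).1 hy)
    have h1 : x ⊗ₜ[B] (1 : B ⧸ J) = 0 := by
      apply Module.Flat.lTensor_preserves_injective_linearMap (M := C) g hg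
      rw [map_zero, LinearMap.lTensor_tmul]
      have hm : g (1 : B ⧸ J) = Submodule.Quotient.mk (p := I.restrictScalars B) (1 : C) :=
        congrArg Submodule.Quotient.mk (map_one (algebraMap B C))
      rw [hm]
      have h2 := congrArg ((I.restrictScalars B).mkQ.lTensor C) (hepi x)
      refine h2.trans ?_
      rw [LinearMap.lTensor_tmul, Submodule.mkQ_apply, (Submodule.Quotient.mk_eq_zero (I.restrictScalars B)).2 hx,
        TensorProduct.tmul_zero]
    have h2 := congrArg (Algebra.TensorProduct.quotIdealMapEquivTensorQuot C J).symm h1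
    rw [map_zero] at h2
    have h3 : (Algebra.TensorProduct.quotIdealMapEquivTensorQuot C J).symm (x ⊗ₜ[B] (1 : B ⧸ J)) =
        Ideal.Quotient.mk _ x := by
      rw [← map_one (Ideal.Quotient.mk J), Algebra.TensorProduct.quotIdealMapEquivTensorQuot_symm_tmul]
      simp
    exact Ideal.Quotient.eq_zero_iff_mem.1 (h3.symm.trans h2)
  rw [hI]
  exact Ideal.FG.map ((isNoetherianRing_iff_ideal_fg B).1 inferInstance (I.comap (algebraMap B C))) _

/-- Local Noetherianity goes up along flat affine monomorphisms. -/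
theorem isLocallyNoetherian_of_flat_mono {W Y : Scheme.{u}} (j : W ⟶ Y) [IsAffineHom j] [Flat j] [Mono j]
    [IsLocallyNoetherian Y] : IsLocallyNoetherian W := by
  refine (isLocallyNoetherian_iff_of_iSup_eq_top (S := fun U : Y.affineOpens =>
    (⟨j ⁻¹ᵁ U.1, U.2.preimage j⟩ : W.affineOpens)) ?_).2 fun U => ?_
  · rw [← j.preimage_iSup, iSup_affineOpens_eq_top, j.preimage_top]
  haveI : IsNoetherianRing Γ(Y, U.1) := IsLocallyNoetherian.component_noetherian U
  have hle : j ⁻¹ᵁ U.1 ≤ j ⁻¹ᵁ U.1 := le_rfl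
  haveI : Epi (j.appLE U.1 (j ⁻¹ᵁ U.1) hle) := by
    haveI hm : Mono (Spec.map (j.appLE U.1 (j ⁻¹ᵁ U.1) hle)) := by
      have h := IsAffineOpen.SpecMap_appLE_fromSpec j U.2 (U.2.preimage j) hle
      refine ⟨fun a b hab => ?_⟩
      have h2 : (a ≫ (U.2.preimage j).fromSpec) ≫ j = (b ≫ (U.2.preimage j).fromSpec) ≫ j := by
        rw [Category.assoc, Category.assoc, ← h, reassoc_of% hab]
      exact (cancel_mono _).1 ((cancel_mono j).1 h2)
    exact ⟨fun a b hab => Spec.map_injective ((cancel_mono (Spec.map (j.appLE U.1 (j ⁻¹ᵁ U.1) hle))).1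
      (by rw [← Spec.map_comp, ← Spec.map_comp, hab]))⟩
  exact isNoetherianRing_of_flat_epi (j.appLE U.1 (j ⁻¹ᵁ U.1) hle)
    (HasRingHomProperty.appLE @Flat j inferInstance U (⟨_, U.2.preimage j⟩) hle)

end Groth.Agent.KFib28
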