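import Groth.Agent.KLoc28.Restrict
import Groth.Agent.RelVALib.AffBaseChange
import Groth.Agent.Coherent.SupportPullback
import Groth.Agent.DQCoh.CohEquiv17
import Groth.Agent.PicLib.PullbackGen

/-!
# The kernel of `K₀(Coh X) ⟶ K₀(Coh W)` for a flat affine monomorphism `W ⟶ X`
-/

set_option autoImplicit false
set_option backward.isDefEq.respectTransparency false
set_option linter.style.haveILetI false
set_option linter.unusedSectionVars false
set_option maxHeartbeats 800000

universe u

open scoped ZeroObject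
open CategoryTheory CategoryTheory.Limits AlgebraicGeometry TopologicalSpace Groth.Agent.Coherent
  Groth.Agent.AmpleLib Groth.Agent.PicLib

noncomputable section

namespace Groth.Agent.KFib28

variable {X W : Scheme.{u}}

/-- The class of a coherent module. -/
abbrev cl {Y : Scheme.{u}} (F : Y.Modules) : SGA6.Kcoh Y := KZero.clSub (fun G : Y.Modules => Coh.IsCoh G) F

variable (j : W ⟶ X)

local notation "P" => Scheme.Modules.pullback j

/-- For an affine monomorphism the counit `j^* j_* G ⟶ G` is an isomorphism on quasi-coherent modules. -/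
theorem isIso_counit [IsAffineHom j] [Mono j] (G : W.Modules) [Coh.IsQCoh G] :
    IsIso ((Scheme.Modules.pullbackPushforwardAdjunction j).counit.app G) := by
  have h : IsPullback (𝟙 W) (𝟙 W) j j := IsKernelPair.id_of_mono j
  have := RelVALib.isIso_bcHom h G
  let e₁ : (Scheme.Modules.pushforward (𝟙 W)).obj ((Scheme.Modules.pullback (𝟙 W)).obj G) ≅ G :=
    (Scheme.Modules.pushforward (𝟙 W)).mapIso ((Scheme.Modules.pullbackId W).app G) ≪≫
      (Scheme.Modules.pushforwardId W).app G
  let adj := Scheme.Modules.pullbackPushforwardAdjunction j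
  have e : (Scheme.Modules.pullbackPushforwardAdjunction (𝟙 W)).unit.app G ≫ e₁.hom = 𝟙 G := by
    have h' := congrArg (fun t => t.app G) (Scheme.Modules.conjugateEquiv_pullbackId_hom W)
    rw [conjugateEquiv_apply_app] at h'
    simp only [Adjunction.id, NatTrans.id_app, Functor.id_obj] at h'
    have e : (Scheme.Modules.pullbackPushforwardAdjunction (𝟙 W)).unit.app G ≫
        (Scheme.Modules.pushforward (𝟙 W)).map ((Scheme.Modules.pullbackId W).hom.app G) =
          (Scheme.Modules.pushforwardId W).inv.app G := by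
      simpa using h'
    show _ ≫ (Scheme.Modules.pushforward (𝟙 W)).map ((Scheme.Modules.pullbackId W).hom.app G) ≫
      (Scheme.Modules.pushforwardId W).hom.app G = _
    rw [reassoc_of% e, Iso.inv_hom_id_app]
    rfl
  have key : adj.counit.app G = RelVALib.bcHom h G ≫ e₁.hom := by
    refine (adj.homEquiv _ _).injective ?_
    conv_rhs => rw [Adjunction.homEquiv_naturality_right, RelVALib.bcHom, Equiv.apply_symm_apply]
    rw [show (adj.homEquiv _ _) (adj.counit.app G) = 𝟙 _ by simp [Adjunction.homEquiv_unit]]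
    rw [← CategoryTheory.Functor.map_id (Scheme.Modules.pushforward j), ← e]
    ext U s
    simp [Scheme.Modules.Hom.comp_app]
  rw [key]
  infer_instance

/-- Classes supported off the image. -/
def off : AddSubgroup (SGA6.Kcoh X) :=
  AddSubgroup.closure {c | ∃ G : X.Modules, Coh.IsCoh G ∧ (∀ w, j w ∉ CohB1.support G) ∧ c = cl G}

variable [AlgebraicGeometry.IsNoetherian X] [IsLocallyNoetherian W] [Flat j] [IsAffineHom j] [Mono j]

instance : PreservesFiniteLimits (P) := DCat.FlatPull.preservesFiniteLimits_pullback j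
instance : PreservesFiniteColimits (P) := by
  haveI := (Scheme.Modules.pullbackPushforwardAdjunction j).leftAdjoint_preservesColimits
  exact ⟨fun _ _ _ => inferInstance⟩

theorem cl_mem_off {M : X.Modules} (hM : Coh.IsCoh M) (h : IsZero ((P).obj M)) : cl M ∈ off j := by
  refine AddSubgroup.subset_closure ⟨M, hM, fun w hw => ?_, rfl⟩
  have h1 : w ∈ CohB1.support ((P).obj M) := by
    rw [support_pullback_qcoh j hM.1 hM.2]
    exact hw
  exact h1 (ModuleCat.subsingleton_of_isZero ((DerSch.stalkFunctor W w).map_isZero h))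

theorem isZero_pull_kernel {A B : X.Modules} (f : A ⟶ B) [Mono ((P).map f)] : IsZero ((P).obj (kernel f)) := by
  rw [IsZero.iff_id_eq_zero]
  haveI : Mono ((P).map (kernel.ι f)) := inferInstance
  rw [← cancel_mono ((P).map (kernel.ι f)), ← cancel_mono ((P).map f)]
  simp [← Functor.map_comp]

theorem isZero_pull_cokernel {A B : X.Modules} (f : A ⟶ B) [Epi ((P).map f)] : IsZero ((P).obj (cokernel f)) := by
  rw [IsZero.iff_id_eq_zero]
  haveI : Epi ((P).map (cokernel.π f)) := inferInstance
  rw [← cancel_epi ((P).map (cokernel.π f)), ← cancel_epi ((P).map f)]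
  simp [← Functor.map_comp]

/-- A map which is an isomorphism on `W` preserves classes up to classes off `W`. -/
theorem sub_mem_of_hom {A B : X.Modules} (hA : Coh.IsCoh A) (hB : Coh.IsCoh B) (f : A ⟶ B) [IsIso ((P).map f)] :
    cl B - cl A ∈ off j := by
  have hm := KLoc28.cl_map hA hB f
  rw [show cl B = KLoc28.cl B from rfl, hm,
    show KLoc28.cl A - KLoc28.cl (kernel f) + KLoc28.cl (cokernel f) - cl A = cl (cokernel f) - cl (kernel f) by
      simp only [cl, KLoc28.cl]; abel]
  exact sub_mem (cl_mem_off j (Coherent.isCoh_cokernel f hA.1 hB) (isZero_pull_cokernel j f))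
    (cl_mem_off j (Coherent.isCoh_kernel f hA hB.1) (isZero_pull_kernel j f))

/-- A map on `W` extends to a coherent module agreeing there. -/
theorem exists_hom_extension (F G : X.Modules) (hF : Coh.IsCoh F) (hG : Coh.IsCoh G)
    (φ : (P).obj F ⟶ (P).obj G) :
    ∃ (F' : X.Modules) (ι : F' ⟶ F) (φ' : F' ⟶ G), Coh.IsCoh F' ∧
      IsIso ((P).map ι) ∧ (P).map φ' = (P).map ι ≫ φ := by
  haveI := hF.1
  haveI := hG.1
  let adj := Scheme.Modules.pullbackPushforwardAdjunction j
  let d : F ⊞ G ⟶ (Scheme.Modules.pushforward j).obj ((P).obj G) :=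
    biprod.desc (adj.unit.app F ≫ (Scheme.Modules.pushforward j).map φ) (-adj.unit.app G)
  have hP : Coh.IsCoh (F ⊞ G) :=
    isCoh_X₂ (ShortComplex.Splitting.ofHasBinaryBiproduct F G).shortExact hF hG
  haveI : Coh.IsQCoh ((P).obj G) := EGA43.InjFibre.isQCoh_pullback j G
  have hq : Coh.IsQCoh ((Scheme.Modules.pushforward j).obj ((P).obj G)) := Coherent.isQCoh_push j _
  have hK : Coh.IsCoh (kernel d) := isCoh_kernel d hP hq
  let p : kernel d ⟶ F := kernel.ι d ≫ biprod.fst
  let q : kernel d ⟶ G := kernel.ι d ≫ biprod.snd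
  haveI := isIso_counit j ((P).obj G)
  have hpq : (P).map q = (P).map p ≫ φ := by
    have h0 : p ≫ (adj.unit.app F ≫ (Scheme.Modules.pushforward j).map φ) = q ≫ adj.unit.app G := by
      have h1 : kernel.ι d ≫ (biprod.fst ≫ (adj.unit.app F ≫ (Scheme.Modules.pushforward j).map φ) +
          biprod.snd ≫ (-adj.unit.app G)) = 0 := by
        rw [← biprod.desc_eq]
        exact kernel.condition d
      simp only [Preadditive.comp_add, Preadditive.comp_neg, ← sub_eq_add_neg] at h1
      simpa [p, q] using sub_eq_zero.1 h1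
    have h2 := congrArg (fun t => (adj.homEquiv _ _).symm t) h0
    simp only [Adjunction.homEquiv_counit, Functor.map_comp, Category.assoc] at h2
    simpa using h2.symm
  haveI : IsIso ((P).map p) := by
    let s : (P).obj F ⟶ (P).obj (F ⊞ G) := (P).map biprod.inl + φ ≫ (P).map biprod.inr
    have hd : s ≫ (P).map d = 0 := by
      rw [← cancel_mono (adj.counit.app ((P).obj G))]
      simp [s, d, ← Functor.map_comp]
      rw [Functor.map_comp, Category.assoc, adj.counit_naturality, adj.left_triangle_components_assoc, add_neg_cancel]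
    let l := (KernelFork.mapIsLimit _ (kernelIsKernel d) (P)).lift (KernelFork.ofι s hd)
    have hl : l ≫ (P).map (kernel.ι d) = s :=
      (KernelFork.mapIsLimit _ (kernelIsKernel d) (P)).fac (KernelFork.ofι s hd) WalkingParallelPair.zero
    refine ⟨⟨l, ?_, ?_⟩⟩
    · haveI : Mono ((P).map (kernel.ι d)) := inferInstance
      rw [← cancel_mono ((P).map (kernel.ι d)), Category.assoc, hl, Category.id_comp]
      simp only [s, Preadditive.comp_add]
      rw [← reassoc_of% hpq, ← Functor.map_comp, ← Functor.map_comp, ← (P).map_add]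
      congr 1
      simp only [p, q, Category.assoc]
      rw [← Preadditive.comp_add, biprod.total, Category.comp_id]
    · simp only [p, Functor.map_comp, reassoc_of% hl]
      simp [s, ← Functor.map_comp]
  exact ⟨kernel d, p, q, hK, inferInstance, hpq⟩

/-- Classes of coherent modules with the same pullback. -/
theorem sub_mem_of_iso {A B : X.Modules} (hA : Coh.IsCoh A) (hB : Coh.IsCoh B) (e : (P).obj A ≅ (P).obj B) :
    cl B - cl A ∈ off j := by
  obtain ⟨A', ι, φ, hA', hι, hφ⟩ := exists_hom_extension j A B hA hB e.hom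
  haveI := hι
  haveI : IsIso ((P).map φ) := by rw [hφ]; infer_instance
  have h := sub_mem (sub_mem_of_hom j hA' hB φ) (sub_mem_of_hom j hA' hA ι)
  rwa [sub_sub_sub_cancel_right] at h

/-- Coherent modules on `W` extend. -/
theorem exists_ext (F : W.Modules) (hF : Coh.IsCoh F) :
    ∃ G : X.Modules, Coh.IsCoh G ∧ Nonempty ((P).obj G ≅ F) := by
  classical
  haveI := hF.1
  let M := (Scheme.Modules.pushforward j).obj F
  haveI : Coh.IsQCoh M := Coherent.isQCoh_push j F
  obtain ⟨t, ht, hcov⟩ := isCompact_iff_finite_and_eq_biUnion_affineOpens.1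
    (show IsCompact ((⊤ : X.Opens) : Set X) from isCompact_univ)
  haveI := ht.to_subtype
  have H : ∀ V : t, ∃ (n : ℕ) (y : Fin n → Γ(F, j ⁻¹ᵁ V.1.1)) (Q : SubM M),
      Submodule.span Γ(W, j ⁻¹ᵁ V.1.1) (Set.range y) = ⊤ ∧ Q.Good ⊤ ∧
      ∀ k, (show Γ(M, V.1.1) from y k) ∈ Q.carrier V.1.1 := fun V => by
    haveI := ((isCoh_iff_finite_sections F).1 hF).2 (j ⁻¹ᵁ V.1.1) (V.1.2.preimage j)
    obtain ⟨n, y, hy⟩ := Module.Finite.exists_fin (R := Γ(W, j ⁻¹ᵁ V.1.1)) (M := Γ(F, j ⁻¹ᵁ V.1.1))
    obtain ⟨Q, hQ, hmem⟩ := exists_good_containing_qcqs (F := M) V.1.2.isCompact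
      (fun k : ULift.{u} (Fin n) => (show Γ(M, V.1.1) from y k.down))
    exact ⟨n, y, Q, hy, hQ, fun k => hmem ⟨k⟩⟩
  choose n y Q hy hQ hlift using H
  have hgood := SubM.good_sum Q hQ
  let R := SubM.sum Q
  haveI : Coh.IsQCoh R.toMod := SubM.isQCoh hgood
  have hRcoh : Coh.IsCoh R.toMod := ⟨SubM.isQCoh hgood, SubM.isFT hgood⟩
  let adj := Scheme.Modules.pullbackPushforwardAdjunction j
  let a : (P).obj R.toMod ⟶ F := (adj.homEquiv _ _).symm R.toι
  haveI := isIso_counit j F
  haveI : Mono a := by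
    rw [show a = (P).map R.toι ≫ adj.counit.app F from Adjunction.homEquiv_counit _ _ _ _]
    infer_instance
  haveI : Epi a := by
    refine epi_of_locally_surjective _ fun V b z hz => ?_
    have hzt : j z ∈ ((⊤ : X.Opens) : Set X) := trivial
    rw [hcov] at hzt
    simp only [Opens.mem_iSup, SetLike.mem_coe] at hzt
    obtain ⟨U, hU, hzU⟩ := hzt
    let U' : t := ⟨U, hU⟩
    have hg : GenOn F (j ⁻¹ᵁ U.1) (fun k : ULift.{u} (Fin (n U')) => y U' k.down) :=
      genOn_of_span_top F (U.2.preimage j) _ (by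
        rw [show Set.range (fun k : ULift.{u} (Fin (n U')) => y U' k.down) = Set.range (y U') from
          ULift.down_surjective.range_comp (y U')]
        exact hy U')
    obtain ⟨W', hW', hzW', c, hc⟩ := hg (V ⊓ j ⁻¹ᵁ U.1) inf_le_right (resM F inf_le_left b) z ⟨hz, hzU⟩
    refine ⟨W', hW'.trans inf_le_left, hzW', ?_⟩
    have hy' : ∀ k : ULift.{u} (Fin (n U')), ∃ s : Γ(R.toMod, U.1), R.toι.app U.1 s = y U' k.down := fun k =>
      R.mem_range_toι.2 (SubM.le_sum Q U' _ (hlift U' k.down))
    choose s hs using hy'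
    refine ⟨∑ k, c k • resM _ (hW'.trans inf_le_right) (pullSec j (s k)), ?_⟩
    rw [← resM_resM F inf_le_left hW' b, hc, map_sum]
    refine Finset.sum_congr rfl fun k _ => ?_
    rw [Scheme.Modules.Hom.app_smul, app_resM, PicLib.homEquiv_symm_app_pullSec, hs]
  haveI : IsIso a := isIso_of_mono_of_epi a
  exact ⟨R.toMod, hRcoh, ⟨asIso a⟩⟩

/-- An extension of a coherent module. -/
def ext (F : W.Modules) : X.Modules := by
  classical exact if h : Coh.IsCoh F then (exists_ext j F h).choose else 0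

theorem ext_spec {F : W.Modules} (h : Coh.IsCoh F) : Coh.IsCoh (ext j F) ∧ Nonempty ((P).obj (ext j F) ≅ F) := by
  rw [ext, dif_pos h]; exact (exists_ext j F h).choose_spec

theorem ext_rel {S : ShortComplex W.Modules} (hS : S.ShortExact) (h₁ : Coh.IsCoh S.X₁)
    (h₂ : Coh.IsCoh S.X₂) (h₃ : Coh.IsCoh S.X₃) :
    cl (ext j S.X₂) - cl (ext j S.X₁) - cl (ext j S.X₃) ∈ off j := by
  obtain ⟨hA, ⟨a⟩⟩ := ext_spec j h₁
  obtain ⟨hB, ⟨b⟩⟩ := ext_spec j h₂
  obtain ⟨hC, ⟨c⟩⟩ := ext_spec j h₃
  obtain ⟨A', ι, φ, hA', hι, hφ⟩ :=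
    exists_hom_extension j (ext j S.X₁) (ext j S.X₂) hA hB (a.hom ≫ S.f ≫ b.inv)
  haveI := hι
  haveI := hS.mono_f
  haveI := hS.epi_g
  haveI : Mono ((P).map φ) := by rw [hφ]; infer_instance
  let i : (P).obj A' ≅ S.X₁ := asIso ((P).map ι) ≪≫ a
  have hsq : (P).map φ ≫ b.hom = i.hom ≫ S.f := by simp [i, hφ]
  let e : (P).obj (cokernel φ) ≅ S.X₃ := PreservesCokernel.iso (P) φ ≪≫
    cokernel.mapIso _ S.f i b hsq ≪≫ (cokernelIsCokernel S.f).coconePointUniqueUpToIso hS.gIsCokernel
  have hcok := Coherent.isCoh_cokernel φ hA'.1 hB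
  have k₁ := sub_mem_of_hom j hA' hA ι
  have k₃ := sub_mem_of_iso j hC hcok (c ≪≫ e.symm)
  have hm := KLoc28.cl_map hA' hB φ
  simp only [cl, KLoc28.cl] at hm k₁ k₃ ⊢
  rw [hm,
    show ∀ A K C E₁ E₃ : SGA6.Kcoh X, A - K + C - E₁ - E₃ = (C - E₃) - (E₁ - A) - K from fun _ _ _ _ _ => by abel]
  exact sub_mem (sub_mem k₃ k₁) (cl_mem_off j (Coherent.isCoh_kernel φ hA' hB.1) (isZero_pull_kernel j φ))

theorem isCoh_pull {F : X.Modules} (hF : Coh.IsCoh F) : Coh.IsCoh ((P).obj F) :=
  ⟨haveI := hF.1; EGA43.InjFibre.isQCoh_pullback j F, Coherent.isFT_pullback_qcoh j hF.1 hF.2⟩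

/-- Pullback on `K₀`. -/
def res : SGA6.Kcoh X →+ SGA6.Kcoh W :=
  SGA6.mapSub (P) _ _ fun _ h => isCoh_pull j h

theorem res_cl {F : X.Modules} (hF : Coh.IsCoh F) : res j (cl F) = cl ((P).obj F) :=
  KLoc28.mapSub_clSub _ _ _ _ hF

/-- The kernel of pullback consists of classes supported off `W`. -/
theorem mem_off_of_res {x : SGA6.Kcoh X} (hx : res j x = 0) : x ∈ off j := by
  let l : SGA6.Kcoh W →+ SGA6.Kcoh X ⧸ off j :=
    QuotientAddGroup.lift _ (FreeAbelianGroup.lift fun F => QuotientAddGroup.mk' (off j) (cl (ext j F.1))) (by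
      rw [KZero.relSub, AddSubgroup.closure_le]
      rintro _ ⟨S, h₁, h₂, h₃, hS, rfl⟩
      rw [SetLike.mem_coe, AddMonoidHom.mem_ker, map_sub, map_sub, FreeAbelianGroup.lift_apply_of,
        FreeAbelianGroup.lift_apply_of, FreeAbelianGroup.lift_apply_of, ← map_sub, ← map_sub]
      exact (QuotientAddGroup.eq_zero_iff _).2 (ext_rel j hS h₁ h₂ h₃))
  have hl : ∀ F : W.Modules, Coh.IsCoh F → l (cl F) = QuotientAddGroup.mk' (off j) (cl (ext j F)) := by
    intro F hF
    rw [cl, KZero.clSub, dif_pos hF]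
    exact FreeAbelianGroup.lift_apply_of _ _
  have key : ∀ y, l (res j y) = QuotientAddGroup.mk' (off j) y := fun y => by
    refine KPr28.k0_induction (R := fun y => l (res j y) = QuotientAddGroup.mk' (off j) y) _ (by simp)
      (fun F hF => ?_) (fun a h => by simp only [map_neg, h]) (fun a b ha hb => by simp only [map_add, ha, hb]) y
    rw [res_cl j hF, hl _ (isCoh_pull j hF)]
    obtain ⟨hE, ⟨e⟩⟩ := ext_spec j (isCoh_pull j hF)
    exact ((QuotientAddGroup.eq).2 (by
      rw [neg_add_eq_sub]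
      exact sub_mem_of_iso j hE hF e))
  have h := key x
  rw [hx, map_zero] at h
  exact (QuotientAddGroup.eq_zero_iff _).1 h.symm

end Groth.Agent.KFib28
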