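import Groth.Agent.KFib28.Localize
import Groth.Agent.KFib28.FlatMonoNoeth
import Groth.Agent.KLoc28.Supp
import Groth.Agent.Coherent.ProjFormula
import Groth.Agent.Coherent.ProperOverApps
import Groth.Agent.CycLib28.PushSupport
import Groth.Agent.CycLib28.PtIdeal
import Groth.Agent.AmpleLib.Relative
import Groth.Agent.S7679

/-!
# Classes generating on all fibres generate `K₀` of a flat scheme
-/

set_option autoImplicit false
set_option backward.isDefEq.respectTransparency false
set_option linter.style.haveILetI false
set_option linter.unusedSectionVars false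
set_option maxHeartbeats 1000000

universe u

open CategoryTheory CategoryTheory.Limits AlgebraicGeometry TopologicalSpace Groth.Agent.Coherent
  Groth.Agent.AmpleLib

noncomputable section

namespace Groth.Agent.KFib28

variable {X S : Scheme.{u}}

local notation "PB" => Scheme.Modules.pullback

/-- Iterated pullback along equal composites. -/
def pullIso {A B C C' : Scheme.{u}} (a : A ⟶ B) (b : B ⟶ C) (a' : A ⟶ C') (b' : C' ⟶ C) (h : a ≫ b = a' ≫ b')
    (M : C.Modules) : (PB a).obj ((PB b).obj M) ≅ (PB a').obj ((PB b').obj M) :=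
  (Scheme.Modules.pullbackComp a b).app M ≪≫ (Scheme.Modules.pullbackCongr h).app M ≪≫
    ((Scheme.Modules.pullbackComp a' b').app M).symm

theorem isCoh_pullback' {A B : Scheme.{u}} (g : A ⟶ B) {F : B.Modules} (hF : Coh.IsCoh F) : Coh.IsCoh ((PB g).obj F) :=
  ⟨haveI := hF.1; EGA43.InjFibre.isQCoh_pullback g F, Coherent.isFT_pullback_qcoh g hF.1 hF.2⟩

theorem cl_iso' {A : Scheme.{u}} [IsLocallyNoetherian A] {F G : A.Modules} (e : F ≅ G) : cl F = cl G :=
  KTop28.cl_iso e

/-- Base change of the structure module of a closed subscheme, tensored with a bundle. -/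
theorem nonempty_push_pull_iso {Z Y : Scheme.{u}} (f : X ⟶ S) (ι : Z ⟶ S) [IsClosedImmersion ι] (i : Y ⟶ X)
    (fY : Y ⟶ Z) (h : IsPullback i fY f ι) (hZ : Coh.IsQCoh (Coh.structureModule Z))
    {E : X.Modules} (hE : FlatMod.IsFinLocFree E) :
    Nonempty (CohB1.tensorMod E ((PB f).obj ((Coh.push ι).obj (Coh.structureModule Z))) ≅
      (Coh.push i).obj ((PB i).obj E)) := by
  haveI := hZ
  haveI := RelVALib.isIso_bcHom h.flip (Coh.structureModule Z)
  obtain ⟨u⟩ := AmpleLib.exists_pullStructureIso fY
  let e₁ : (PB f).obj ((Coh.push ι).obj (Coh.structureModule Z)) ≅ (Coh.push i).obj (Coh.structureModule Y) :=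
    asIso (RelVALib.bcHom h.flip (Coh.structureModule Z)) ≪≫ (Coh.push i).mapIso u
  exact ⟨(tensE E).mapIso e₁ ≪≫ (Coherent.projIso (f := i) hE).app (Coh.structureModule Y) ≪≫
    (Coh.push i).mapIso (S7679.rightUnit _)⟩

variable [AlgebraicGeometry.IsNoetherian X] [AlgebraicGeometry.IsNoetherian S] (f : X ⟶ S) {m : ℕ} (E : Fin m → X.Modules)

/-- The subgroup generated by the `E_i ⊗ f^* M`. -/
def gen : AddSubgroup (SGA6.Kcoh X) :=
  AddSubgroup.closure {c | ∃ (i : Fin m) (M : S.Modules), Coh.IsCoh M ∧ c = cl (CohB1.tensorMod (E i) ((PB f).obj M))}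

theorem cl_mem_gen_of_points {G : X.Modules} (hG : Coh.IsCoh G)
    (h : ∀ x ∈ CohB1.support G, cl (CycLib28.InterSheaf.pointSheaf x) ∈ gen f E) : cl G ∈ gen f E := by
  refine (AddSubgroup.closure_le _).2 ?_ (KTop28.cl_mem_closure_points G hG)
  rintro c ⟨x, hx, rfl⟩
  exact h x hx

variable [Flat f]

theorem pointSheaf_mem (hE : ∀ i, FlatMod.IsFinLocFree (E i))
    (hfib : ∀ s : S, IsLocallyNoetherian (f.fiber s) → AddSubgroup.closure (Set.range (fun i : Fin m =>
      KZero.clSub (fun M : (f.fiber s).Modules => Coh.IsCoh M) ((PB (f.fiberι s)).obj (E i)))) = ⊤) :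
    ∀ (C : Closeds S) (x : X), f x ∈ C → cl (CycLib28.InterSheaf.pointSheaf x) ∈ gen f E := by
  intro C
  refine wellFounded_lt.induction (C := fun C : Closeds S =>
    ∀ x : X, f x ∈ C → cl (CycLib28.InterSheaf.pointSheaf x) ∈ gen f E) C fun C ih => ?_
  · intro x hxC
    by_cases hlt : (⟨closure {f x}, isClosed_closure⟩ : Closeds S) < C
    · exact ih _ hlt x (subset_closure rfl)
    have hC : (⟨closure {f x}, isClosed_closure⟩ : Closeds S) = C := by
      have hle : (⟨closure {f x}, isClosed_closure⟩ : Closeds S) ≤ C :=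
        C.isClosed.closure_subset_iff.2 (Set.singleton_subset_iff.2 hxC)
      exact eq_of_le_of_not_lt hle hlt
    let η := f x
    let I := IntMult.ptIdeal η
    haveI : IsIntegral I.subscheme := CycLib28.isIntegral_ptIdeal η
    let ι := I.subschemeι
    have hrange : Set.range ι = closure {η} := by
      rw [I.range_subschemeι]
      ext z
      exact CycLib28.mem_support_ptIdeal.trans specializes_iff_mem_closure
    obtain ⟨ζ, hζ⟩ : η ∈ Set.range ι := hrange ▸ subset_closure rfl
    let t := I.subscheme.fromSpecResidueField ζ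
    haveI : Flat t := by
      have hgen : ∀ z, ζ ⤳ z := fun z => by
        rw [← ι.isClosedEmbedding.isInducing.specializes_iff, hζ]
        exact specializes_iff_mem_closure.2 (hrange ▸ Set.mem_range_self z)
      obtain rfl : ζ = genericPoint I.subscheme :=
        (Specializes.antisymm (hgen _) (genericPoint_specializes _)).eq
      have hf : IsField (I.subscheme.presheaf.stalk (genericPoint I.subscheme)) := Field.toIsField I.subscheme.functionField
      haveI : IsIso (I.subscheme.residue (genericPoint I.subscheme)) := by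
        rw [ConcreteCategory.isIso_iff_bijective]
        refine ⟨(RingHom.injective_iff_ker_eq_bot (IsLocalRing.residue _)).2 ?_, IsLocalRing.residue_surjective⟩
        rw [IsLocalRing.ker_residue]
        exact IsLocalRing.isField_iff_maximalIdeal_eq.1 hf
      show Flat (Spec.map _ ≫ I.subscheme.fromSpecStalk _)
      infer_instance
    let Y := pullback f ι
    let i : Y ⟶ X := pullback.fst f ι
    let fY : Y ⟶ I.subscheme := pullback.snd f ι
    haveI : AlgebraicGeometry.IsNoetherian Y := by
      haveI : IsLocallyNoetherian Y := LocallyOfFiniteType.isLocallyNoetherian i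
      haveI : CompactSpace Y := QuasiCompact.compactSpace_of_compactSpace i
      exact {}
    let W := pullback fY t
    let j : W ⟶ Y := pullback.fst fY t
    haveI : IsAffineHom t := ⟨fun U _ => by
      rcases Set.eq_empty_or_nonempty (SetLike.coe (t ⁻¹ᵁ U)) with h | ⟨p, hp⟩
      · rw [show t ⁻¹ᵁ U = ⊥ from Opens.ext h]
        exact isAffineOpen_bot _
      · rw [show t ⁻¹ᵁ U = ⊤ from top_le_iff.1 fun q _ => (Subsingleton.elim p q) ▸ hp]
        exact isAffineOpen_top _⟩
    haveI : Flat j := MorphismProperty.pullback_fst (P := @Flat) _ _ inferInstance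
    haveI : IsAffineHom j := MorphismProperty.pullback_fst (P := @IsAffineHom) _ _ inferInstance
    have hsq : IsPullback (j ≫ i) (pullback.snd fY t) f (t ≫ ι) :=
      ((IsPullback.of_hasPullback fY t).flip.paste_vert (IsPullback.of_hasPullback f ι).flip).flip
    have ht : t ≫ ι = Spec.map (ι.residueFieldMap ζ) ≫ S.fromSpecResidueField (ι ζ) :=
      (Scheme.Hom.SpecMap_residueFieldMap_fromSpecResidueField ι ζ).symm
    haveI : IsIso (ι.residueFieldMap ζ) := by
      rw [ConcreteCategory.isIso_iff_bijective]
      refine ⟨(ι.residueFieldMap ζ).hom.injective, fun r => ?_⟩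
      obtain ⟨a, rfl⟩ := IsLocalRing.residue_surjective r
      obtain ⟨b, rfl⟩ := ι.stalkMap_surjective ζ a
      exact ⟨IsLocalRing.residue _ b, rfl⟩
    have hsq' : IsPullback (j ≫ i) (pullback.snd fY t ≫ Spec.map (ι.residueFieldMap ζ)) f
        (S.fromSpecResidueField (ι ζ)) :=
      IsPullback.of_iso hsq (Iso.refl _) (Iso.refl _) (asIso (Spec.map (ι.residueFieldMap ζ))) (Iso.refl _)
        (by simp) (by simp) (by simp) (by simp [ht])
    let e : W ≅ f.fiber (ι ζ) := hsq'.isoPullback
    have he : e.hom ≫ f.fiberι (ι ζ) = j ≫ i := hsq'.isoPullback_hom_fst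
    haveI : IsLocallyNoetherian W := isLocallyNoetherian_of_flat_mono j
    haveI : CompactSpace W := QuasiCompact.compactSpace_of_compactSpace j
    haveI : IsLocallyNoetherian (f.fiber (ι ζ)) := isLocallyNoetherian_of_isOpenImmersion e.inv
    haveI : CompactSpace ↥(f.fiber (ι ζ)) := e.hom.homeomorph.compactSpace
    haveI : AlgebraicGeometry.IsNoetherian (f.fiber (ι ζ)) := {}
    -- surjectivity on `W`
    have hW : ∀ y : SGA6.Kcoh W, y ∈ AddSubgroup.closure (Set.range fun k : Fin m => res j (cl ((PB i).obj (E k)))) := by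
      have hsurj : ∀ y : SGA6.Kcoh W, y ∈ (res e.hom).range := fun y => by
        refine KPr28.k0_induction (R := fun y => y ∈ (res e.hom).range) _ (zero_mem (res e.hom).range) (fun F hF => ?_)
          (fun a h => (res e.hom).range.neg_mem h) (fun a b ha hb => (res e.hom).range.add_mem ha hb) y
        refine ⟨cl ((PB e.inv).obj F), ?_⟩
        rw [res_cl e.hom (isCoh_pullback' _ hF)]
        exact cl_iso' ((Scheme.Modules.pullbackComp e.hom e.inv).app F ≪≫
          (Scheme.Modules.pullbackCongr e.hom_inv_id).app F ≪≫ (Scheme.Modules.pullbackId W).app F)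
      intro y
      obtain ⟨z, rfl⟩ := hsurj y
      have hz : z ∈ AddSubgroup.closure _ := (hfib (ι ζ) inferInstance).ge (AddSubgroup.mem_top z)
      induction hz using AddSubgroup.closure_induction with
      | mem c hc =>
        obtain ⟨k, rfl⟩ := hc
        refine AddSubgroup.subset_closure ⟨k, ?_⟩
        have hEk := Coherent.CohBC.isCoh_of_isFinLocFree (hE k)
        show res j (cl ((PB i).obj (E k))) = res e.hom (cl ((PB (f.fiberι (ι ζ))).obj (E k)))
        rw [res_cl j (isCoh_pullback' _ hEk), res_cl e.hom (isCoh_pullback' _ hEk)]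
        exact cl_iso' (pullIso j i e.hom (f.fiberι (ι ζ)) he.symm (E k))
      | zero => rw [map_zero]; exact zero_mem _
      | add a b _ _ ha hb => rw [map_add]; exact add_mem ha hb
      | neg a _ ha => rw [map_neg]; exact neg_mem ha
    obtain ⟨g, hg⟩ := KLoc28.exists_push i
    have hzr : ∀ z : Y, f (i z) ∈ closure {η} := fun z => by
      rw [← hrange]
      exact ⟨fY z, by rw [← Scheme.Hom.comp_apply, ← Scheme.Hom.comp_apply, pullback.condition]⟩
    have hoff : ∀ c ∈ off j, g c ∈ gen f E := by
      intro c hc
      induction hc using AddSubgroup.closure_induction with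
      | mem c hc =>
        obtain ⟨G, hG, hdis, rfl⟩ := hc
        rw [hg G hG]
        refine cl_mem_gen_of_points f E (Coherent.isCoh_push_finite i hG) fun p hp => ?_
        obtain ⟨z, hz, rfl⟩ := CycLib28.support_push_subset_image i i.isClosedEmbedding.isClosedMap G
          (Coherent.isClosed_support G (Coherent.locallyFinGen_of_isFT G hG.2)) hp
        refine ih ⟨closure {f (i z)}, isClosed_closure⟩ ?_ (i z) (subset_closure rfl)
        rw [← hC]
        refine lt_of_le_of_ne ?_ fun heq => ?_
        · exact isClosed_closure.closure_subset_iff.2 (Set.singleton_subset_iff.2 (hzr z))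
        have h1 : f (i z) = η :=
          Specializes.antisymm (specializes_iff_closure_subset.2 (congrArg SetLike.coe heq).ge)
            (specializes_iff_closure_subset.2 (congrArg SetLike.coe heq).le) |>.eq
        have h2 : fY z = ζ := ι.isClosedEmbedding.injective (by
          rw [hζ, ← h1, ← Scheme.Hom.comp_apply, ← Scheme.Hom.comp_apply, pullback.condition])
        obtain ⟨w, hw, -⟩ := Scheme.Pullback.exists_preimage_pullback (f := fY) (g := t) z
          (IsLocalRing.closedPoint (I.subscheme.residueField ζ))
          (by rw [h2, Scheme.fromSpecResidueField_apply])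
        exact hdis w (hw.symm ▸ hz)
      | zero => rw [map_zero]; exact zero_mem _
      | add a b _ _ ha hb => rw [map_add]; exact add_mem ha hb
      | neg a _ ha => rw [map_neg]; exact neg_mem ha
    have hgen : ∀ y ∈ AddSubgroup.closure (Set.range fun k : Fin m => cl ((PB i).obj (E k))), g y ∈ gen f E := by
      intro y hy
      induction hy using AddSubgroup.closure_induction with
      | mem c hc =>
        obtain ⟨k, rfl⟩ := hc
        haveI : IsLocallyNoetherian I.subscheme := LocallyOfFiniteType.isLocallyNoetherian ι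
        obtain ⟨e'⟩ := nonempty_push_pull_iso f ι i fY (IsPullback.of_hasPullback f ι)
          (Coherent.isCoh_structureModule _).1 (hE k)
        rw [hg _ (isCoh_pullback' _ (Coherent.CohBC.isCoh_of_isFinLocFree (hE k)))]
        rw [show KLoc28.cl ((Coh.push i).obj ((PB i).obj (E k))) = cl (CohB1.tensorMod (E k) _) from (KTop28.cl_iso e').symm]
        exact AddSubgroup.subset_closure
          ⟨k, _, Coherent.isCoh_push_finite ι (Coherent.isCoh_structureModule _), rfl⟩
      | zero => rw [map_zero]; exact zero_mem _
      | add a b _ _ ha hb => rw [map_add]; exact add_mem ha hb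
      | neg a _ ha => rw [map_neg]; exact neg_mem ha
    obtain ⟨y, hy⟩ : cl (CycLib28.InterSheaf.pointSheaf x) ∈ g.range := by
      refine KLoc28.mem_range_of_support hg (CycLib28.K0.cohAt_pointSheaf x).1 fun p hp => ?_
      obtain ⟨z, hz, -⟩ := Scheme.Pullback.exists_preimage_pullback (f := f) (g := ι) x ζ hζ.symm
      have hsp : x ⤳ p := CycLib28.InterSheaf.specializes_of_nontrivial_pointSheaf x p
        (not_subsingleton_iff_nontrivial.1 hp)
      exact hsp.mem_closed i.isClosedEmbedding.isClosed_range ⟨z, hz⟩
    obtain ⟨y', hy', hres⟩ : ∃ y' ∈ AddSubgroup.closure (Set.range fun k : Fin m => cl ((PB i).obj (E k))),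
        res j y' = res j y := by
      have h := hW (res j y)
      rw [show (Set.range fun k : Fin m => res j (cl ((PB i).obj (E k)))) =
        res j '' Set.range (fun k : Fin m => cl ((PB i).obj (E k))) from Set.range_comp _ _,
        ← AddMonoidHom.map_closure] at h
      exact h
    have hd : g (y - y') ∈ gen f E :=
      hoff _ (mem_off_of_res j (by rw [map_sub, hres, sub_self]))
    rw [map_sub] at hd
    rw [← hy]
    simpa using add_mem hd (hgen y' hy')

theorem main (hE : ∀ i, FlatMod.IsFinLocFree (E i))
    (hfib : ∀ s : S, IsLocallyNoetherian (f.fiber s) → AddSubgroup.closure (Set.range (fun i : Fin m =>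
      KZero.clSub (fun M : (f.fiber s).Modules => Coh.IsCoh M) ((PB (f.fiberι s)).obj (E i)))) = ⊤)
    (y : SGA6.Kcoh X) : y ∈ gen f E := by
  refine KPr28.k0_induction (R := fun y => y ∈ gen f E) _ (zero_mem _)
    (fun F hF => cl_mem_gen_of_points f E hF fun x _ => pointSheaf_mem f E hE hfib ⊤ x trivial)
    (fun a h => neg_mem h) (fun a b ha hb => add_mem ha hb) y

end Groth.Agent.KFib28
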